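import Cfsg.Agent.Lib.TG.Main

set_option autoImplicit false

namespace CfsgLib.CS

open Subgroup Cfsg CfsgLib.FT CfsgLib.FT.BGN

universe u

theorem one_class {G : Type u} [Group G] [Finite G]
    (h1 : ∀ a b : G, orderOf a = 2 → orderOf b = 2 → ∃ g : G, g * a * g⁻¹ = b)
    (S : Subgroup G) [S.Normal] (hns : ¬ Group.IsSolvable S) :
    ∀ a b : G, orderOf a = 2 → orderOf b = 2 → ∃ g ∈ S, g * a * g⁻¹ = b := by
  intro a b ha hb
  have key : S ⊔ 𝐂[a] = ⊤ := by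
    rw [← index_eq_one]
    by_contra hn
    obtain ⟨r, hr, hd⟩ := Nat.exists_prime_and_dvd hn
    have := Fact.mk hr
    have := Fact.mk Nat.prime_two
    obtain ⟨R⟩ : Nonempty (Sylow r G) := inferInstance
    have hnil := R.isPGroup'.isNilpotent
    have h2 : ¬ TG.Nc S R := fun hc => hns (TG.rdN_of_noTC (fun _ _ _ _ _ h => h.false) _ G S R rfl
      le_normalizer_of_normal PCompl.hnpc_of_isNilpotent hc)
    unfold TG.Nc at h2
    push Not at h2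
    obtain ⟨t, -, h3, h4, h5⟩ := h2
    obtain ⟨g, rfl⟩ := h1 a t ha (orderOf_eq_prime (by rw [pow_two, h3]) h5)
    have h6 : ((g⁻¹ • R : Sylow r G) : Subgroup G) ≤ S ⊔ 𝐂[a] := by
      rintro _ ⟨x, hx, rfl⟩
      obtain ⟨s, hs, e⟩ := h4 x hx
      have h7 : g⁻¹ * s⁻¹ * x * g ∈ 𝐂[a] := by
        rw [U4.mem_cent1]
        calc g⁻¹ * s⁻¹ * x * g * a = g⁻¹ * s⁻¹ * (x * (g * a * g⁻¹) * x⁻¹) * x * g := by group
          _ = a * (g⁻¹ * s⁻¹ * x * g) := by rw [e]; group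
      have h8 : g⁻¹ * s * g⁻¹⁻¹ ∈ S := Normal.conj_mem inferInstance s hs g⁻¹
      have h9 := mul_mem (mem_sup_left h8 : _ ∈ S ⊔ 𝐂[a]) (mem_sup_right h7)
      change g⁻¹ * x * g⁻¹⁻¹ ∈ _
      convert h9 using 1
      group
    exact (g⁻¹ • R).not_dvd_index (hd.trans (index_dvd_of_le h6))
  obtain ⟨g, rfl⟩ := h1 a b ha hb
  obtain ⟨s, hs, c, hc, rfl⟩ := mem_sup_of_normal_left.1 (key.ge (mem_top g))
  refine ⟨s, hs, ?_⟩
  calc s * a * s⁻¹ = s * (c * a * c⁻¹) * s⁻¹ := by rw [U4.conj_eq_of_mem_cent1 hc]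
    _ = _ := by group

end CfsgLib.CS
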