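import Cfsg.Agent.Lib.CoreSimpleInd
import Cfsg.Agent.Lib.CS.Invs
import Cfsg.Agent.Lib.CS.One
import Cfsg.Agent.Lib.CS.Count
import Cfsg.Agent.Lib.CS.Two

set_option autoImplicit false

namespace CfsgLib.CS

open Subgroup Cfsg

universe u

variable {G : Type u} [Group G] [Finite G]

theorem core_inv {S : Subgroup G} {g : G} (h : g ∉ S) (h2 : g * g ∈ S) :
    ∃ t, orderOf t = 2 ∧ Commute g t := by
  rcases Nat.even_or_odd' (orderOf g) with ⟨k, hk | hk⟩
  · have h0 : k ≠ 0 := fun e => (orderOf_pos g).ne' (by rw [hk, e])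
    refine ⟨g ^ k, ?_, (Commute.refl g).pow_right k⟩
    rw [orderOf_pow_of_dvd h0 (hk ▸ Dvd.intro_left 2 rfl), hk,
      Nat.mul_div_cancel _ (Nat.pos_of_ne_zero h0)]
  · refine absurd ?_ h
    have h3 : (g * g) ^ k * g = 1 := by
      rw [← sq, ← pow_mul, ← pow_succ, ← hk, pow_orderOf_eq_one]
    rw [eq_inv_of_mul_eq_one_right h3]
    exact inv_mem (pow_mem h2 k)

/-- If all involutions are conjugate, the quotient by a simple normal subgroup is solvable. -/
theorem core (h1 : ∀ a b : G, orderOf a = 2 → orderOf b = 2 → ∃ g : G, g * a * g⁻¹ = b)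
    (S : Subgroup G) [hS : S.Normal] [IsSimpleGroup S] (hns : ¬ Group.IsSolvable S) :
    Group.IsSolvable (G ⧸ S) := by
  have : Fact (Nat.Prime 2) := ⟨Nat.prime_two⟩
  obtain ⟨T⟩ : Nonempty (Sylow 2 S) := inferInstance
  obtain ⟨a, ha, b, hb, oa, ob, hab⟩ := two_invs hns T
  obtain ⟨Q, hQ⟩ := (T.isPGroup'.map S.subtype).exists_le_sylow
  have oa' : orderOf (a : G) = 2 := by rwa [orderOf_coe]
  have ob' : orderOf (b : G) = 2 := by rwa [orderOf_coe]
  have hi : ∀ t : G, orderOf t = 2 → t ∈ S := fun t ht => by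
    obtain ⟨g, rfl⟩ := h1 a t oa' ht
    exact hS.conj_mem _ a.2 g
  have h3 := two_index Q.isPGroup' (S.subgroupOf Q) (fun t ht => hi t (by rwa [orderOf_coe]))
    (fun w hw hw2 x y ox oy cx cy => Subtype.ext (uniq_fix S (one_class h1 S hns) (w : G)
      (fun s hs => core_inv (S := S) (fun e => hw ((mul_mem_cancel_right hs).1 e)) (by
        have e : (w : G) * s * (w * s) = w * w * ((w : G)⁻¹ * s * w) * s := by group
        rw [e]
        exact mul_mem (mul_mem hw2 (hS.conj_mem' _ hs _)) hs))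
      x y (by rwa [orderOf_coe]) (by rwa [orderOf_coe]) (congrArg Subtype.val cx.eq)
      (congrArg Subtype.val cy.eq)))
    ⟨⟨a, hQ (mem_map_of_mem _ ha)⟩, ⟨b, hQ (mem_map_of_mem _ hb)⟩, by rwa [orderOf_mk],
      by rwa [orderOf_mk], fun e => hab (Subtype.ext (congrArg (fun x : Q => (x : G)) e))⟩
  refine isSolvable_of_isCyclic_sylow_two (Q.mapSurjective (QuotientGroup.mk'_surjective S))
    (isCyclic_of_card_dvd_prime (p := 2) ?_)
  have h4 : Nat.card ((Q : Subgroup G).map (QuotientGroup.mk' S)) = (S.subgroupOf Q).index := by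
    rw [← relIndex_ker, QuotientGroup.ker_mk']; rfl
  change Nat.card ((Q : Subgroup G).map (QuotientGroup.mk' S)) ∣ 2
  have h5 : (S.subgroupOf Q).index ≠ 0 := index_ne_zero_of_finite
  rw [h4]
  interval_cases (S.subgroupOf (Q : Subgroup G)).index <;> simp_all

end CfsgLib.CS
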