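import Cfsg.Agent.Lib.CoreComponents
import Cfsg.Agent.Lib.CoreSolvable
import Cfsg.Agent.Lib.FT.Main

set_option autoImplicit false

namespace CfsgLib.CS

open Subgroup Cfsg CfsgLib
open scoped commutatorElement

universe u

variable {G : Type u} [Group G] [Finite G]

theorem exists_simple4
    (h1 : ∀ a b : G, orderOf a = 2 → orderOf b = 2 → ∃ g : G, g * a * g⁻¹ = b) [Nontrivial G]
    (hR : ∀ N : Subgroup G, N.Normal → Group.IsSolvable N → N = ⊥) :
    ∃ S : Subgroup G, S.Normal ∧ IsSimpleGroup S ∧ ¬ Group.IsSolvable S := by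
  haveI : Fact (Nat.Prime 2) := ⟨Nat.prime_two⟩
  have hrad : solvableRadical G = ⊥ := hR _ solvableRadical_normal solvableRadical_isSolvable
  have hF : fittingSubgroup G = ⊥ := solvableRadical_eq_bot_iff.1 hrad
  obtain ⟨K, hK⟩ : ∃ K : Subgroup G, IsComponent K := by
    by_contra h
    push Not at h
    exact genFitting_ne_bot (G := G) (by
      rw [generalizedFittingSubgroup, layer_eq_bot_iff.2 h, hF, sup_idem])
  have hz : center K = ⊥ := by
    have h2 : ((center K).map K.subtype).IsSubnormal :=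
      IsSubnormal.trans' (Normal.isSubnormal (inferInstance : (center K).Normal)) hK.1
    have h3 := le_solvableRadical_of_isSubnormal h2 (Group.isSolvable_of_comm (by
      rintro ⟨_, a, ha, rfl⟩ ⟨_, b, hb, rfl⟩
      exact Subtype.ext (congrArg K.subtype (mem_center_iff.1 hb a))))
    rwa [hrad, le_bot_iff, map_eq_bot_iff_of_injective _ K.subtype_injective] at h3
  have hc : ∀ t ∈ K, t ∈ centralizer (K : Set G) → t = 1 := fun t ht h => by
    have : (⟨t, ht⟩ : K) ∈ center K := mem_center_iff.2 fun y => Subtype.ext (h y y.2)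
    rw [hz, mem_bot] at this
    exact congrArg Subtype.val this
  have hns := isComponent_not_isSolvable hK
  refine ⟨K, ?_, isSimpleGroup_of_isQuasisimple hK.2 hz, hns⟩
  obtain ⟨t, ht⟩ := exists_prime_orderOf_dvd_card' (G := K) 2 (by
    by_contra h
    exact hns (FT.feit_thompson (Nat.odd_iff.2 (by omega))))
  have key : ∀ g : G, K = K.map (MulAut.conj g).toMonoidHom ∨
      ∀ x ∈ K, g * x * g⁻¹ ∈ centralizer (K : Set G) := fun g =>
    (isComponent_eq_or_commutator_eq_bot hK (isComponent_map_conj hK g)).imp_right fun h x hx => by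
      rw [commutator_comm, commutator_eq_bot_iff_le_centralizer] at h
      exact h (mem_map_of_mem _ hx)
  have ht' : orderOf (t : G) = 2 := by rwa [Subgroup.orderOf_coe]
  have ht1 : (t : G) ≠ 1 := fun e => by simp [e] at ht'
  have ht2 : (t : G) * t = 1 := by rw [← pow_two, ← ht', pow_orderOf_eq_one]
  refine ⟨fun x hx g => ?_⟩
  rcases key g with h | h
  · rw [h]; exact mem_map_of_mem _ hx
  exfalso
  have h2 := h t t.2
  have hne : g * t * g⁻¹ ∉ K := fun e => ht1 (by simpa using hc _ e h2)
  have h3 : orderOf ((t : G) * (g * t * g⁻¹)) = 2 := by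
    refine orderOf_eq_prime ?_ fun e => hne ?_
    · have c := h2 t t.2
      calc ((t : G) * (g * t * g⁻¹)) ^ 2 = t * (g * t * g⁻¹ * t) * (g * t * g⁻¹) := by
            rw [pow_two]; group
        _ = (t * t) * (g * (t * t) * g⁻¹) := by rw [← c]; group
        _ = 1 := by rw [ht2]; group
    · rw [← eq_inv_of_mul_eq_one_right e |>.symm]
      exact K.inv_mem t.2
  obtain ⟨k, hk⟩ := h1 _ _ ht' h3
  rcases key k with h4 | h4
  · have : (t : G) * (g * t * g⁻¹) ∈ K := by
      rw [← hk]; exact h4.ge (mem_map_of_mem _ t.2)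
    exact hne ((K.mul_mem_cancel_left t.2).1 this)
  · have := h4 t t.2
    rw [hk] at this
    exact ht1 (hc _ t.2 ((Subgroup.mul_mem_cancel_right _ h2).1 this))

end CfsgLib.CS
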